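import Cfsg.Agent.Lib.Helper31.CTI.Defs
import Cfsg.Agent.S1230
import Cfsg.Agent.Lib.Helper57.PSLMap

/-!
# Project CTI (S4064), module [E-AB] (helper75, hedge): `cdata_psl_of_elementary`
-/

set_option autoImplicit false

namespace Cfsg.Agent.Lib.Helper75.CTI

open Cfsg Cfsg.Agent.Lib.Helper31.CTI

variable {G : Type*} [Group G] {M N : Subgroup G}

theorem comm_of_sq_eq_one {H : Type*} [Group H] (h : ∀ x : H, x ^ 2 = 1) (a b : H) :
    a * b = b * a := by
  have ha : a⁻¹ = a := by
    rw [inv_eq_iff_mul_eq_one, ← pow_two]; exact h a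
  have hb : b⁻¹ = b := by
    rw [inv_eq_iff_mul_eq_one, ← pow_two]; exact h b
  have hab : (a * b)⁻¹ = a * b := by
    rw [inv_eq_iff_mul_eq_one, ← pow_two]; exact h (a * b)
  calc a * b = (a * b)⁻¹ := hab.symm
    _ = b⁻¹ * a⁻¹ := mul_inv_rev a b
    _ = b * a := by rw [ha, hb]

/-- an involution of `G` has an elementary abelian centralizer -/
theorem centralizer_elementary [Finite G] (h : CData M N) (hM : ∀ m ∈ M, m ^ 2 = 1)
    (T : Sylow 2 G) (hT : (T : Subgroup G) = M) (t : G) (ht : orderOf t = 2) :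
    ∀ c ∈ Subgroup.centralizer ({t} : Set G), c ^ 2 = 1 := by
  have : Fact (Nat.Prime 2) := ⟨Nat.prime_two⟩
  have ht1 : t ≠ 1 := by
    intro h1
    rw [h1, orderOf_one] at ht
    omega
  have hz : IsPGroup 2 (Subgroup.zpowers t) := by
    apply IsPGroup.of_card (n := 1)
    rw [Nat.card_zpowers, ht, pow_one]
  obtain ⟨Q, hQ⟩ := hz.exists_le_sylow
  obtain ⟨g, hg⟩ := MulAction.exists_smul_eq G T Q
  have htQ : t ∈ (Q : Subgroup G) := hQ (Subgroup.mem_zpowers t)
  rw [← hg, Sylow.coe_subgroup_smul, hT] at htQ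
  obtain ⟨m, hm, hmt⟩ := (Subgroup.mem_smul_pointwise_iff_exists _ _ _).1 htQ
  have hmt' : g * m * g⁻¹ = t := hmt
  have hm1 : m ≠ 1 := by
    intro h1
    rw [h1, mul_one, mul_inv_cancel] at hmt'
    exact ht1 hmt'.symm
  intro c hc
  have hc' : g⁻¹ * c * g ∈ Subgroup.centralizer ({m} : Set G) := by
    rw [Subgroup.mem_centralizer_singleton_iff] at hc ⊢
    rw [← hmt'] at hc
    have e1 : m = g⁻¹ * (g * m * g⁻¹) * g := by group
    calc g⁻¹ * c * g * m = g⁻¹ * (c * (g * m * g⁻¹)) * g := by group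
      _ = g⁻¹ * ((g * m * g⁻¹) * c) * g := by rw [hc]
      _ = m * (g⁻¹ * c * g) := by group
  have hcM := h.nice.cc m hm hm1 hc'
  have h2 := hM _ hcM
  have e2 : c = g * (g⁻¹ * c * g) * g⁻¹ := by group
  rw [e2]
  have : (g * (g⁻¹ * c * g) * g⁻¹) ^ 2 = g * (g⁻¹ * c * g) ^ 2 * g⁻¹ := by
    rw [pow_two, pow_two]; group
  rw [this, h2, mul_one, mul_inv_cancel]

/-- **[E-AB]** -/
theorem cdata_psl_of_elementary_h75 [Finite G] (h : CData M N) (hM : ∀ m ∈ M, m ^ 2 = 1) :
    ∃ n : ℕ, 2 ≤ n ∧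
      Nonempty (G ≃* Matrix.ProjectiveSpecialLinearGroup (Fin 2) (GaloisField 2 n)) := by
  classical
  have : Fact (Nat.Prime 2) := ⟨Nat.prime_two⟩
  have hMN : M ≤ N := by rw [h.hN]; exact Subgroup.le_normalizer
  have hM2 : IsPGroup 2 M := by
    intro x
    refine ⟨1, ?_⟩
    rw [pow_one]
    exact Subtype.ext (hM x x.2)
  have hidx : ¬ 2 ∣ M.index := by
    intro h2
    have hcop := h.nice.hall
    have h2M : 2 ∣ Nat.card M := h.even.two_dvd
    have := Nat.dvd_gcd h2M h2
    rw [Nat.Coprime] at hcop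
    rw [hcop] at this
    omega
  let T : Sylow 2 G := hM2.toSylow hidx
  have hT : (T : Subgroup G) = M := rfl
  -- `M` is not cyclic
  have hnc : ¬ IsCyclic (T : Subgroup G) := by
    rw [hT]
    intro hcyc
    obtain ⟨g0, hg0⟩ := hcyc.exists_generator
    apply h.lt
    apply le_antisymm hMN
    intro n hn
    -- every element of `M` is `1` or `g0`
    have hall : ∀ m ∈ M, m = 1 ∨ m = (g0 : G) := by
      intro m hm
      obtain ⟨k, hk⟩ := Subgroup.mem_zpowers_iff.1 (hg0 ⟨m, hm⟩)
      have hk' : (g0 : G) ^ k = m := by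
        have := congrArg Subtype.val hk
        rw [Subgroup.coe_zpow] at this
        exact this
      have hg02 : (g0 : G) ^ (2 : ℤ) = 1 := by
        have := hM g0 g0.2
        rw [zpow_ofNat]; exact this
      rcases Int.emod_two_eq_zero_or_one k with hk0 | hk1
      · left
        rw [← hk', ← Int.mul_ediv_add_emod k 2, hk0, add_zero, zpow_mul, hg02, one_zpow]
      · right
        rw [← hk', ← Int.mul_ediv_add_emod k 2, hk1, zpow_add, zpow_mul, hg02, one_zpow, one_mul,
          zpow_one]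
    by_cases hg01 : (g0 : G) = 1
    · -- `M = ⊥`
      exfalso
      apply h.nice.ne_bot
      rw [Subgroup.eq_bot_iff_forall]
      intro m hm
      rcases hall m hm with h1 | h1
      · exact h1
      · rw [h1, hg01]
    · have hnn : n ∈ Subgroup.normalizer (M : Set G) := by rw [← h.hN]; exact hn
      have hconj : n * (g0 : G) * n⁻¹ ∈ M := (Subgroup.mem_normalizer_iff.1 hnn _).1 g0.2
      have hconj' : n * (g0 : G) * n⁻¹ = (g0 : G) := by
        rcases hall _ hconj with h1 | h1
        · exfalso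
          apply hg01
          have : (g0 : G) = n⁻¹ * (n * (g0 : G) * n⁻¹) * n := by group
          rw [this, h1, mul_one, inv_mul_cancel]
        · exact h1
      have hncent : n ∈ Subgroup.centralizer ({(g0 : G)} : Set G) := by
        rw [Subgroup.mem_centralizer_singleton_iff]
        calc n * (g0 : G) = n * (g0 : G) * n⁻¹ * n := by group
          _ = (g0 : G) * n := by rw [hconj']
      exact h.nice.cc g0 g0.2 hg01 hncent
  have hnn : ¬ (T : Subgroup G).Normal := by
    rw [hT]
    intro hn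
    apply h.ne_top
    rw [h.hN]
    exact Subgroup.normalizer_eq_top_iff.2 hn
  have hC : ∀ t : G, orderOf t = 2 →
      IsMulCommutative (Subgroup.centralizer ({t} : Set G)) ∧
        ∀ c ∈ Subgroup.centralizer ({t} : Set G), c ^ 2 = 1 := by
    intro t ht
    have h2 := centralizer_elementary h hM T hT t ht
    refine ⟨⟨⟨fun a b => ?_⟩⟩, h2⟩
    exact comm_of_sq_eq_one (fun x => Subtype.ext (h2 x x.2)) a b
  obtain ⟨F, instF, instFin, hcardF, ⟨e⟩⟩ := Cfsg.Agent.S1230.result T hnc hnn hC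
  obtain ⟨n, hn⟩ := IsPGroup.iff_card.1 hM2
  have hcardF' : Fintype.card F = 2 ^ n := by
    rw [hcardF]; exact hn
  have hn2 : 2 ≤ n := by
    by_contra hlt
    apply hnc
    rw [hT]
    have hn01 : n = 0 ∨ n = 1 := by omega
    rcases hn01 with h0 | h1
    · rw [h0, pow_zero] at hn
      have := (Nat.card_eq_one_iff_unique.1 hn).1
      exact isCyclic_of_subsingleton
    · rw [h1, pow_one] at hn
      exact isCyclic_of_prime_card hn
  let instG : Fintype (GaloisField 2 n) := Fintype.ofFinite _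
  have hcardG : Fintype.card (GaloisField 2 n) = 2 ^ n := by
    rw [← Nat.card_eq_fintype_card]
    exact GaloisField.card 2 n (by omega)
  have eF : F ≃+* GaloisField 2 n :=
    FiniteField.ringEquivOfCardEq (K := F) (K' := GaloisField 2 n) (by rw [hcardF', hcardG])
  exact ⟨n, hn2, ⟨e.trans (Cfsg.Agent.Lib.Helper57.pslMapEquiv eF)⟩⟩

end Cfsg.Agent.Lib.Helper75.CTI
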