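import Cfsg.Agent.Lib.Helper75.CTI.EAb

/-!
# Project CTI (S4064), module [E-AB]: exact sheet statement (helper75, hedge), in helper75's own
namespace (helper78's `Lib/Helper78/CTI/EAb.lean` is the official provider of the sheet name)
-/

set_option autoImplicit false

namespace Cfsg.Agent.Lib.Helper75.CTI

open Cfsg Cfsg.Agent.Lib.Helper31.CTI

variable {G : Type*} [Group G]

variable {M N : Subgroup G}

/-- [E-AB] (landed S1230 + Helper57.pslMapEquiv + uniqueness of finite fields.) -/
theorem cdata_psl_of_elementary [Finite G] (h : CData M N) (hM : ∀ m ∈ M, m ^ 2 = 1) :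
    ∃ n : ℕ, 2 ≤ n ∧
      Nonempty (G ≃* Matrix.ProjectiveSpecialLinearGroup (Fin 2) (GaloisField 2 n)) :=
  Cfsg.Agent.Lib.Helper75.CTI.cdata_psl_of_elementary_h75 h hM

end Cfsg.Agent.Lib.Helper75.CTI
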