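import Cfsg.Agent.Lib.Helper31.CTI.Defs
import Cfsg.Agent.S0338
import Cfsg.Agent.S0885
import Cfsg.Agent.S1147

/-!
# Project CTI (S4064), module [E-DICH] (helper75, hedge): `cdata_dichotomy` in `_of` form

The upstream modules [C-ZASS], [C-TRANS], [C-DA], [C-INV] enter as hypotheses (their exact sheet
statements, for the given `M N`).
-/

set_option autoImplicit false

namespace Cfsg.Agent.Lib.Helper75.CTI

open Cfsg Cfsg.Agent.Lib.Helper31.CTI

variable {G : Type*} [Group G] {M N : Subgroup G}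

/-- the set `{t ∈ M | t ^ 2 = 1}` as a subgroup, when the involutions of `M` are central in `M` -/
def omegaSub (M : Subgroup G)
    (hc : ∀ t ∈ M, orderOf t = 2 → ∀ m ∈ M, m * t = t * m) : Subgroup G where
  carrier := {t | t ∈ M ∧ t ^ 2 = 1}
  one_mem' := ⟨M.one_mem, one_pow 2⟩
  mul_mem' := by
    rintro a b ⟨ha, ha2⟩ ⟨hb, hb2⟩
    refine ⟨M.mul_mem ha hb, ?_⟩
    by_cases hb1 : b = 1
    · rw [hb1, mul_one, ha2]
    · have hob : orderOf b = 2 := orderOf_eq_prime hb2 hb1
      have hcomm : a * b = b * a := hc b hb hob a ha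
      have : (a * b) ^ 2 = a ^ 2 * b ^ 2 := by
        rw [pow_two, pow_two, pow_two]
        calc a * b * (a * b) = a * (b * a) * b := by group
          _ = a * (a * b) * b := by rw [hcomm]
          _ = a * a * (b * b) := by group
      rw [this, ha2, hb2, one_mul]
  inv_mem' := by
    rintro a ⟨ha, ha2⟩
    refine ⟨M.inv_mem ha, ?_⟩
    rw [inv_pow, ha2, inv_one]

theorem mem_omegaSub (M : Subgroup G)
    (hc : ∀ t ∈ M, orderOf t = 2 → ∀ m ∈ M, m * t = t * m) (t : G) :
    t ∈ omegaSub M hc ↔ t ∈ M ∧ t ^ 2 = 1 := Iff.rfl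

theorem omegaSub_le (M : Subgroup G)
    (hc : ∀ t ∈ M, orderOf t = 2 → ∀ m ∈ M, m * t = t * m) : omegaSub M hc ≤ M :=
  fun _ h => h.1

theorem card_omegaSub (M : Subgroup G)
    (hc : ∀ t ∈ M, orderOf t = 2 → ∀ m ∈ M, m * t = t * m) :
    Nat.card (omegaSub M hc) = Nat.card {t : G // t ∈ M ∧ t ^ 2 = 1} := rfl

/-- **[E-DICH]**, `_of` form. -/
theorem cdata_dichotomy_of [Finite G] (h : CData M N)
    (hZ : Cfsg.IsZassenhausGroup G (G ⧸ N))
    (hreg : ∀ x y : G ⧸ N, x ≠ ((1 : G) : G ⧸ N) → y ≠ ((1 : G) : G ⧸ N) →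
      ∃! m : M, (m : G) • x = y)
    (hDA : ∀ u : G, orderOf u = 2 → u ∉ N →
      dSub N u ⊓ M = ⊥ ∧ Nat.card (dSub N u) * Nat.card M = Nat.card N ∧
        Nat.card {t : G // t ∈ M ∧ t ^ 2 = 1} = Nat.card (dSub N u) + 1)
    (hInv : ∀ t : G, t ∈ N → orderOf t = 2 → t ∈ M ∧ ∀ m ∈ M, m * t = t * m) :
    (∀ m ∈ M, m ^ 2 = 1) ∨
      (IsPGroup 2 M ∧ (∃ a ∈ M, ∃ b ∈ M, a * b ≠ b * a) ∧
        Nat.card M = (Nat.card {t : G // t ∈ M ∧ t ^ 2 = 1}) ^ 2) := by
  classical
  have hMN : M ≤ N := by rw [h.hN]; exact Subgroup.le_normalizer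
  have hc : ∀ t ∈ M, orderOf t = 2 → ∀ m ∈ M, m * t = t * m :=
    fun t ht ht2 => (hInv t (hMN ht) ht2).2
  -- an involution `t0` of `M`
  have : Fact (Nat.Prime 2) := ⟨Nat.prime_two⟩
  obtain ⟨t0', ht0'⟩ := exists_prime_orderOf_dvd_card' (G := M) 2 h.even.two_dvd
  have ht0M : (t0' : G) ∈ M := t0'.2
  have ht0 : orderOf (t0' : G) = 2 := by rw [Subgroup.orderOf_coe]; exact ht0'
  have ht01 : (t0' : G) ≠ 1 := by
    intro h1
    rw [h1, orderOf_one] at ht0
    omega
  -- an involution `u ∉ N`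
  obtain ⟨g, hg⟩ : ∃ g : G, g ∉ N := by
    by_contra hall
    apply h.ne_top
    rw [eq_top_iff]
    intro x _
    by_contra hx
    exact hall ⟨x, hx⟩
  set u : G := g * (t0' : G) * g⁻¹ with hu_def
  have hu2 : orderOf u = 2 := by
    rw [hu_def]
    have : g * (t0' : G) * g⁻¹ = MulAut.conj g (t0' : G) := rfl
    rw [this, MulEquiv.orderOf_eq, ht0]
  have huN : u ∉ N := by
    intro huN
    have huM := (hInv u huN hu2).1
    have hgn : g ∈ Subgroup.normalizer (M : Set G) := by
      by_contra hgn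
      exact ht01 (h.nice.ti g hgn _ ht0M huM)
    rw [← h.hN] at hgn
    exact hg hgn
  obtain ⟨hD1, hD2, hD3⟩ := hDA u hu2 huN
  -- the points
  let instΩ : Fintype (G ⧸ N) := Fintype.ofFinite _
  set a : G ⧸ N := ((1 : G) : G ⧸ N) with ha_def
  set b : G ⧸ N := u • a with hb_def
  have hstab_a : MulAction.stabilizer G a = N := MulAction.stabilizer_quotient N
  have hab : a ≠ b := by
    intro hab
    have : u ∈ MulAction.stabilizer G a := by
      rw [MulAction.mem_stabilizer_iff]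
      exact hab.symm
    rw [hstab_a] at this
    exact huN this
  have hstab_b : MulAction.stabilizer G b = N.map (MulAut.conj u).toMonoidHom := by
    rw [hb_def, MulAction.stabilizer_smul_eq_stabilizer_map_conj, hstab_a]
  have hstab_ab : (MulAction.stabilizer G a ⊓ MulAction.stabilizer G b : Subgroup G) = dSub N u := by
    rw [hstab_a, hstab_b]
    rfl
  -- `|Ω| = |M| + 1`
  have hMfix : ∀ m ∈ M, m • a = a := by
    intro m hm
    have : m ∈ MulAction.stabilizer G a := by rw [hstab_a]; exact hMN hm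
    exact this
  have hcardΩ : Nat.card M + 1 = Fintype.card (G ⧸ N) := by
    have hb_ne : b ≠ a := fun h' => hab h'.symm
    have e : M ≃ {y : G ⧸ N // y ≠ a} := by
      refine Equiv.ofBijective (fun m => ⟨(m : G) • b, ?_⟩) ⟨?_, ?_⟩
      · intro hmb
        apply hb_ne
        have h1 : (m : G)⁻¹ • ((m : G) • b) = (m : G)⁻¹ • a := congrArg _ hmb
        rw [inv_smul_smul] at h1
        rw [h1]
        have := hMfix (m : G) m.2
        calc (m : G)⁻¹ • a = (m : G)⁻¹ • ((m : G) • a) := by rw [this]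
          _ = a := inv_smul_smul _ _
      · intro m1 m2 h12
        have h12' : (m1 : G) • b = (m2 : G) • b := congrArg Subtype.val h12
        obtain ⟨m0, _, hm0u⟩ := hreg b ((m1 : G) • b) hb_ne (by
          intro hmb
          apply hb_ne
          have h1 : (m1 : G)⁻¹ • ((m1 : G) • b) = (m1 : G)⁻¹ • a := congrArg _ hmb
          rw [inv_smul_smul] at h1
          rw [h1]
          have := hMfix (m1 : G) m1.2
          calc (m1 : G)⁻¹ • a = (m1 : G)⁻¹ • ((m1 : G) • a) := by rw [this]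
            _ = a := inv_smul_smul _ _)
        rw [hm0u m1 rfl, hm0u m2 h12'.symm]
      · rintro ⟨y, hy⟩
        obtain ⟨m0, hm0, _⟩ := hreg b y hb_ne hy
        exact ⟨m0, Subtype.ext hm0⟩
    have h1 : Nat.card M = Nat.card {y : G ⧸ N // y ≠ a} := Nat.card_congr e
    have h2 : Nat.card {y : G ⧸ N // y ≠ a} = Fintype.card (G ⧸ N) - 1 := by
      rw [Nat.card_eq_fintype_card, Fintype.card_subtype_compl, Fintype.card_subtype_eq]
    have h3 : 0 < Fintype.card (G ⧸ N) := Fintype.card_pos_iff.2 ⟨a⟩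
    omega
  have hHfix : ∀ m ∈ M, m ≠ 1 → ∀ c : G ⧸ N, m • c = c → c = a := by
    intro m hm hm1 c hmc
    by_contra hca
    obtain ⟨m0, _, hm0u⟩ := hreg c c hca hca
    have e1 : (⟨m, hm⟩ : M) = m0 := hm0u ⟨m, hm⟩ hmc
    have e2 : (1 : M) = m0 := hm0u 1 (one_smul _ _)
    apply hm1
    have := e1.trans e2.symm
    exact congrArg Subtype.val this
  -- `|D|` is odd
  have hEsub : Nat.card (omegaSub M hc) = Nat.card (dSub N u) + 1 := by
    rw [card_omegaSub]; exact hD3
  have hEdvd : Nat.card (omegaSub M hc) ∣ Nat.card M :=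
    Subgroup.card_dvd_of_le (omegaSub_le M hc)
  have h2M : IsPGroup 2 (omegaSub M hc) := by
    intro x
    refine ⟨1, ?_⟩
    rw [pow_one]
    exact Subtype.ext x.2.2
  obtain ⟨k, hk⟩ := IsPGroup.iff_card.1 h2M
  have hk1 : 1 ≤ k := by
    by_contra hk0
    have hk0' : k = 0 := by omega
    rw [hk0', pow_zero] at hk
    have hsub : Subsingleton (omegaSub M hc) := (Nat.card_eq_one_iff_unique.1 hk).1
    have hmem : (t0' : G) ∈ omegaSub M hc := ⟨ht0M, by rw [← ht0]; exact pow_orderOf_eq_one _⟩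
    have := congrArg Subtype.val (hsub.elim ⟨(t0' : G), hmem⟩ 1)
    exact ht01 this
  have hodd : Odd (Nat.card (dSub N u)) := by
    have : Nat.card (dSub N u) = 2 ^ k - 1 := by omega
    rw [this]
    have h2k : Even (2 ^ k) := (Nat.even_pow.2 ⟨even_two, by omega⟩)
    have hpos : 0 < 2 ^ k := by positivity
    obtain ⟨r, hr⟩ := h2k
    exact ⟨r - 1, by omega⟩
  rcases Cfsg.Agent.S0885.result hZ hab (Nat.card M) (Nat.card (dSub N u)) hcardΩ.symm
      (by rw [hstab_ab]) hodd M (by rw [hstab_a]; exact hMN) hcardΩ hHfix with hcase | hcase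
  · -- `|M| - 1 ≤ 2 |D|`
    left
    have hlt : Nat.card M < 2 * Nat.card (omegaSub M hc) := by
      have hpos : 0 < Nat.card M := Nat.card_pos
      omega
    obtain ⟨c, hc'⟩ := hEdvd
    have hEpos : 0 < Nat.card (omegaSub M hc) := Nat.card_pos
    have hc1 : c = 1 := by
      rcases Nat.lt_or_ge c 2 with hc2 | hc2
      · rcases Nat.eq_zero_or_pos c with hc0 | hc0
        · rw [hc0, mul_zero] at hc'
          have : 0 < Nat.card M := Nat.card_pos
          omega
        · omega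
      · exfalso
        have : 2 * Nat.card (omegaSub M hc) ≤ Nat.card (omegaSub M hc) * c := by
          rw [mul_comm]; exact Nat.mul_le_mul_left _ hc2
        omega
    rw [hc1, mul_one] at hc'
    have hEM : omegaSub M hc = M := by
      have hfin : Finite M := inferInstance
      exact Subgroup.eq_of_le_of_card_ge (omegaSub_le M hc) (le_of_eq hc')
    intro m hm
    have : m ∈ omegaSub M hc := by rw [hEM]; exact hm
    exact this.2
  · -- `M` a nonabelian 2-group
    right
    obtain ⟨hM2, ⟨x, y, hxy⟩, _⟩ := hcase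
    have hna : ∃ a' ∈ M, ∃ b' ∈ M, a' * b' ≠ b' * a' :=
      ⟨x, x.2, y, y.2, fun hcomm => hxy (Subtype.ext hcomm)⟩
    refine ⟨hM2, hna, ?_⟩
    have hoddΩ : Odd (Fintype.card (G ⧸ N)) := by
      rw [← hcardΩ]
      exact h.even.add_one
    have hsimple : IsSimpleGroup G := Cfsg.Agent.S0338.result hZ hoddΩ
    obtain ⟨n, _, _, hn1, _, hn2, _⟩ := Cfsg.Agent.S1147.result hZ hab M
      (by rw [hstab_a]; exact hMN)
      (by
        intro x hx m hm
        rw [hstab_a, h.hN] at hx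
        exact (Subgroup.mem_normalizer_iff.1 hx m).1 hm)
      hreg hM2 hna
    rw [hstab_ab] at hn2
    rw [Nat.card_eq_fintype_card] at hn1
    have hpos : 0 < 2 ^ n := by positivity
    have h1 : Nat.card M = 2 ^ (2 * n) := by omega
    have h2 : Nat.card {t : G // t ∈ M ∧ t ^ 2 = 1} = 2 ^ n := by omega
    rw [h1, h2, ← pow_mul, mul_comm]

end Cfsg.Agent.Lib.Helper75.CTI
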